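import Groth.Agent.Lib.InjCoprod20.Basic
import Groth.Agent.Lib.OX.Exact
import Mathlib.Order.Zorn

/-!
# Maximal independent families of subobjects
-/

set_option autoImplicit false
set_option maxHeartbeats 400000
set_option linter.style.haveILetI false
set_option backward.isDefEq.respectTransparency false

universe u

open CategoryTheory CategoryTheory.Limits AlgebraicGeometry

namespace GrothLib.InjQCoh20

variable {X : Scheme.{u}} {ι : Type u}

/-- A finite piece of the identity of a coproduct. -/
theorem exists_sub_killMap_eq (F : ι → X.Modules) (t : Finset ι) :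
    ∃ π : ∀ i, (∐ F) ⟶ F i, 𝟙 (∐ F) - InjCoprod20.killMap F t = ∑ i ∈ t, π i ≫ Sigma.ι F i := by
  classical
  let π : ∀ i, (∐ F) ⟶ F i := fun i => Sigma.desc fun k => if h : k = i then eqToHom (by rw [h]) else 0
  refine ⟨π, Sigma.hom_ext _ _ fun k => ?_⟩
  rw [Preadditive.comp_sub, Category.comp_id, Preadditive.comp_sum]
  by_cases hk : k ∈ t
  · rw [InjCoprod20.ι_killMap_of_mem F hk, sub_zero, Finset.sum_eq_single k]
    · simp [π]
    · intro b _ hb
      simp [π, Ne.symm hb]
    · exact fun h => absurd hk h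
  · rw [InjCoprod20.ι_killMap_of_notMem F hk, sub_self, Finset.sum_eq_zero]
    intro b hb
    have : k ≠ b := fun h => hk (h ▸ hb)
    simp [π, this]

variable {I : X.Modules}

/-- An indexed family of subobjects is independent. -/
def Indep {κ : Type u} (a : κ → Subobject I) : Prop :=
  Mono (Sigma.desc fun k => (a k).arrow)

/-- A set of subobjects is independent if each of its small injective enumerations is. -/
def IndepSet (s : Set (Subobject I)) : Prop :=
  ∀ (κ : Type u) (a : κ → Subobject I), Function.Injective a → (∀ k, a k ∈ s) → Indep a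

theorem indepSet_empty : IndepSet (∅ : Set (Subobject I)) := fun κ a _ h => by
  haveI : IsEmpty κ := ⟨fun k => (h k).elim⟩
  refine Preadditive.mono_of_cancel_zero _ fun {K} g _ => ?_
  have hz : 𝟙 (∐ fun k => ((a k : Subobject I) : X.Modules)) = 0 :=
    Sigma.hom_ext _ _ fun k => isEmptyElim k
  rw [← Category.comp_id g, hz, comp_zero]

/-- Independence has finite character. -/
theorem indepSet_sUnion (c : Set (Set (Subobject I))) (hc : IsChain (· ⊆ ·) c) (hne : c.Nonempty)
    (h : ∀ s ∈ c, IndepSet s) : IndepSet (⋃₀ c) := by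
  classical
  intro κ a ha hmem
  let F : κ → X.Modules := fun k => ((a k : Subobject I) : X.Modules)
  refine (OX.mono_iff _).2 fun x => (ModuleCat.mono_iff_injective _).2
    ((injective_iff_map_eq_zero _).2 fun e he => ?_)
  obtain ⟨t, ht⟩ := InjCoprod20.exists_killMap_eq_zero F x e
  obtain ⟨s, hs, hts⟩ : ∃ s ∈ c, ∀ k ∈ t, a k ∈ s := by
    clear ht
    induction t using Finset.induction with
    | empty => exact ⟨_, hne.some_mem, fun k hk => absurd hk (Finset.notMem_empty k)⟩
    | @insert k t _ ih =>
      obtain ⟨s, hs, hts⟩ := ih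
      obtain ⟨s', hs', hk⟩ := Set.mem_sUnion.1 (hmem k)
      rcases hc.total hs hs' with hle | hle
      · exact ⟨s', hs', fun i hi => (Finset.mem_insert.1 hi).elim (· ▸ hk) fun hi => hle (hts i hi)⟩
      · exact ⟨s, hs, fun i hi => (Finset.mem_insert.1 hi).elim (· ▸ hle hk) fun hi => hts i hi⟩
  let b : {k // k ∈ t} → Subobject I := fun k => a k.1
  have hb : Indep b := h s hs _ b (fun i j hij => Subtype.ext (ha hij)) fun k => hts k.1 k.2
  let incl : (∐ fun k => ((b k : Subobject I) : X.Modules)) ⟶ ∐ F :=
    Sigma.desc fun k => Sigma.ι F k.1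
  obtain ⟨π, hπ⟩ := exists_sub_killMap_eq F t
  let back : (∐ F) ⟶ ∐ fun k => ((b k : Subobject I) : X.Modules) :=
    ∑ k ∈ t.attach, π k.1 ≫ Sigma.ι (fun k => ((b k : Subobject I) : X.Modules)) k
  have hback : back ≫ incl = 𝟙 (∐ F) - InjCoprod20.killMap F t := by
    rw [hπ, Preadditive.sum_comp, ← Finset.sum_attach t]
    refine Finset.sum_congr rfl fun k _ => ?_
    rw [Category.assoc, Sigma.ι_desc]
  have hinc : incl ≫ Sigma.desc (fun k => (a k).arrow) = Sigma.desc fun k => (b k).arrow :=
    Sigma.hom_ext _ _ fun k => by simp [incl, b, F]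
  have he' : e = (OX.stalk x).map incl ((OX.stalk x).map back e) := by
    haveI : (OX.stalk x).Additive := (OX.stalkSkyAdj x).left_adjoint_additive
    rw [← ConcreteCategory.comp_apply, ← Functor.map_comp, hback, Functor.map_sub,
      CategoryTheory.Functor.map_id]
    refine Eq.trans ?_ (LinearMap.sub_apply (𝟙 ((OX.stalk x).obj (∐ F)) : _ ⟶ _).hom
      ((OX.stalk x).map (InjCoprod20.killMap F t)).hom e).symm
    refine Eq.trans (sub_zero e).symm ?_
    exact congrArg (e - ·) ht.symm
  have hz : (OX.stalk x).map back e = 0 := by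
    haveI : Mono (Sigma.desc fun k => (b k).arrow) := hb
    have hinj := (ModuleCat.mono_iff_injective _).1
      ((OX.mono_iff (Sigma.desc fun k => (b k).arrow)).1 hb x)
    refine hinj (Eq.trans ?_ (map_zero _).symm)
    rw [← hinc, Functor.map_comp, ConcreteCategory.comp_apply, ← he']
    exact he
  rw [he', hz]
  exact map_zero _

/-- Maximal independent sets of subobjects with a property. -/
theorem exists_maximal_indepSet (good : Subobject I → Prop) :
    ∃ s : Set (Subobject I), (∀ a ∈ s, good a) ∧ IndepSet s ∧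
      ∀ a, good a → a ∉ s → ¬ IndepSet (insert a s) := by
  obtain ⟨s, hs⟩ := zorn_subset {s : Set (Subobject I) | (∀ a ∈ s, good a) ∧ IndepSet s}
    fun c hcS hc => by
      rcases c.eq_empty_or_nonempty with rfl | hne
      · exact ⟨∅, ⟨fun a ha => ha.elim, indepSet_empty⟩, fun s hs => hs.elim⟩
      · exact ⟨⋃₀ c, ⟨fun a ha => let ⟨s, hs, has⟩ := Set.mem_sUnion.1 ha; (hcS hs).1 a has,
          indepSet_sUnion c hc hne fun s hs => (hcS hs).2⟩, fun s hs => Set.subset_sUnion_of_mem hs⟩
  refine ⟨s, hs.prop.1, hs.prop.2, fun a ha has hins => has ?_⟩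
  exact hs.2 ⟨fun b hb => hb.elim (fun h => h ▸ ha) (hs.prop.1 b), hins⟩ (Set.subset_insert a s)
    (Set.mem_insert a s)

end GrothLib.InjQCoh20
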