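import Groth.Agent.Lib.InjQCoh20.Prim
import Groth.Agent.Lib.InjQCoh20.Zorn
import Groth.Agent.Lib.QCoh.Abelian
import Groth.Agent.Lib.QCoh.Qcqs

/-!
# Quasi-coherent modules embed into quasi-coherent injective modules
-/

set_option autoImplicit false
set_option maxHeartbeats 400000
set_option linter.style.haveILetI false
set_option backward.isDefEq.respectTransparency false

universe u

open CategoryTheory CategoryTheory.Limits AlgebraicGeometry Opposite TopologicalSpace

namespace GrothLib.InjQCoh20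

section Affine

variable {R : CommRingCat.{u}}

theorem exists_smul_eq_zero_of_toStalk (M : ModuleCat.{u} R) (p : Spec R) (m : M)
    (h : (tilde.toStalk M p).hom m = 0) : ∃ t : R, t ∉ p.asIdeal ∧ t • m = 0 := by
  obtain ⟨t, ht⟩ := (IsLocalizedModule.eq_zero_iff (PrimeSpectrum.asIdeal p).primeCompl
    (tilde.toStalk M p).hom).1 h
  exact ⟨t, t.2, ht⟩

variable [IsNoetherianRing R]

/-- A section of a quasi-coherent module has a multiple with prime annihilator, seen at that prime. -/
theorem exists_prime_section (N : (Spec R).Modules) [N.IsQuasicoherent]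
    (z : (moduleSpecΓFunctor (R := R)).obj N) (hz : z ≠ 0) :
    ∃ (p : Spec R) (a : R), (∀ b ∈ p.asIdeal, b • a • z = 0) ∧
      ∀ c : R, c ∉ p.asIdeal → topGerm N p (c • a • z) ≠ 0 := by
  let adj := tilde.adjunction (R := R)
  let M : ModuleCat.{u} R := (moduleSpecΓFunctor (R := R)).obj N
  let m : M := z
  let S : Submodule R M := Submodule.span R {m}
  have hm : (⟨m, Submodule.mem_span_singleton_self m⟩ : S) ≠ 0 := fun h => hz (congrArg Subtype.val h)
  obtain ⟨P, hP, -⟩ := exists_le_isAssociatedPrime_of_isNoetherianRing R _ hm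
  rw [isAssociatedPrime_iff] at hP
  obtain ⟨hPp, ⟨y, hy⟩, hPy⟩ := hP
  obtain ⟨a, rfl⟩ := Submodule.mem_span_singleton.1 hy
  let p : Spec R := ⟨P, hPp⟩
  have hann : ∀ b : R, b ∈ P ↔ b • a • m = 0 := fun b => by
    rw [hPy, Submodule.mem_colon_singleton, Submodule.mem_bot]
    exact Subtype.ext_iff
  refine ⟨p, a, fun b hb => (hann b).1 hb, fun c hc h0 => ?_⟩
  haveI : IsIso N.fromTildeΓ := Scheme.Modules.isIso_fromTildeΓ_of_isQuasicoherent N
  let w : M := c • a • m
  have ht : (moduleSpecΓFunctor (R := R)).map (adj.counit.app N) (adj.unit.app M w) = w :=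
    ConcreteCategory.congr_hom (adj.right_triangle_components N) w
  have h1 : (OX.stalk p).map (adj.counit.app N) (topGerm (tilde M) p (adj.unit.app M w)) = 0 := by
    refine (topGerm_map (adj.counit.app N) p _).symm.trans ?_
    exact (congrArg (topGerm N p) ht).trans h0
  have h2 : (tilde.toStalk M p).hom w = 0 := by
    haveI : IsIso (adj.counit.app N) := inferInstanceAs (IsIso N.fromTildeΓ)
    exact (ConcreteCategory.bijective_of_isIso ((OX.stalk p).map (adj.counit.app N))).1
      (h1.trans (map_zero _).symm)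
  obtain ⟨t, ht, ht'⟩ := exists_smul_eq_zero_of_toStalk M p w h2
  have h3 : (t * c) • a • m = 0 := by rw [mul_smul]; exact ht'
  exact (hPp.mem_or_mem ((hann _).2 h3)).elim ht hc

end Affine

variable {X : Scheme.{u}} [IsLocallyNoetherian X]

omit [IsLocallyNoetherian X] in
theorem exists_affine_section {K : X.Modules} (hK : ¬ IsZero K) :
    ∃ (U : X.Opens) (hU : IsAffineOpen U)
      (s : (moduleSpecΓFunctor (R := Γ(X, U))).obj ((Scheme.Modules.restrictFunctor hU.fromSpec).obj K)),
      s ≠ 0 := by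
  by_contra! h
  refine hK ((OX.isZero_iff K).2 fun x => ?_)
  refine @ModuleCat.isZero_of_subsingleton _ _ _ (subsingleton_of_forall_eq 0 fun e => ?_)
  obtain ⟨W, hW, q, rfl⟩ := OX.germ_exists (DCoh.toP.obj K) e
  obtain ⟨_, ⟨U, hU, rfl⟩, hxU, hUW⟩ :=
    X.isBasis_affineOpens.exists_subset_of_mem_open (show x ∈ (W : Set X) from hW) W.2
  refine (OX.germ_map (DCoh.toP.obj K) (homOfLE (show U ≤ W from hUW)) hxU q).symm.trans ?_
  let q' : Γ(K, U) := K.presheaf.map (homOfLE (show U ≤ W from hUW)).op q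
  have hq : q' = 0 :=
    (QCoh.topLinearEquiv hU K).symm.injective ((h U hU _).trans (map_zero _).symm)
  exact (congrArg (OX.germ (DCoh.toP.obj K) U hxU) hq).trans (map_zero _)

/-- A nonzero subobject of a quasi-coherent module in an injective module gives a quasi-coherent injective. -/
theorem exists_good {F I K : X.Modules} [F.IsQuasicoherent] [Injective I] (i : K ⟶ F) [Mono i]
    (g : K ⟶ I) [Mono g] (hK : ¬ IsZero K) :
    ∃ (J : X.Modules) (Ψ : J ⟶ I), J.IsQuasicoherent ∧ Injective J ∧ ¬ IsZero J ∧ Mono Ψ := by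
  obtain ⟨U, hU, s, hs⟩ := exists_affine_section hK
  haveI : IsNoetherianRing Γ(X, U) := IsLocallyNoetherian.component_noetherian ⟨U, hU⟩
  let j := hU.fromSpec
  let Γf := moduleSpecΓFunctor (R := Γ(X, U))
  let Rf := Scheme.Modules.restrictFunctor j
  haveI : Rf.PreservesMonomorphisms :=
    Functor.preservesMonomorphisms_of_adjunction (CxOX.extZeroAdj j)
  haveI : Γf.PreservesMonomorphisms :=
    Functor.preservesMonomorphisms_of_adjunction (tilde.adjunction (R := Γ(X, U)))
  let z : Γf.obj (Rf.obj F) := Γf.map (Rf.map i) s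
  have hz : z ≠ 0 := fun h => hs
    ((ModuleCat.mono_iff_injective (Γf.map (Rf.map i))).1 inferInstance (h.trans (map_zero _).symm))
  haveI : (Rf.obj F).IsQuasicoherent := inferInstanceAs (F.restrict j).IsQuasicoherent
  obtain ⟨p, a, hp, hne⟩ := exists_prime_section (Rf.obj F) z hz
  have hpre : ∀ b ∈ p.asIdeal, b • a • s = 0 := fun b hb => by
    refine (ModuleCat.mono_iff_injective (Γf.map (Rf.map i))).1 inferInstance ?_
    rw [map_smul, map_smul, map_zero]
    exact hp b hb
  let r : Γf.obj (Rf.obj I) := Γf.map (Rf.map g) (a • s)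
  haveI : Injective (Rf.obj I) := HomRestrict20.injective_restrictFunctor j I ‹_›
  obtain ⟨M, ψ, hψ, hM, hM0⟩ := exists_mono_tilde (Rf.obj I) p r
    (fun b hb => (((Γf.map (Rf.map g)).hom.map_smul b (a • s)).symm.trans
      ((congrArg _ (hpre b hb)).trans (map_zero _))))
    (fun c hc h0 => hne c hc <| by
      have h1 : (OX.stalk p).map (Rf.map g) (topGerm (Rf.obj K) p (c • a • s)) = 0 := by
        refine (topGerm_map (Rf.map g) p _).symm.trans ?_
        exact (congrArg (topGerm _ p) ((Γf.map (Rf.map g)).hom.map_smul c (a • s))).trans h0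
      have h2 : topGerm (Rf.obj K) p (c • a • s) = 0 :=
        (ModuleCat.mono_iff_injective _).1 ((OX.mono_iff (Rf.map g)).1 inferInstance p)
          (h1.trans (map_zero _).symm)
      have h3 : Γf.map (Rf.map i) (c • a • s) = c • a • z := by
        rw [map_smul, map_smul]
      rw [← h3]
      refine (topGerm_map (Rf.map i) p _).trans ?_
      rw [h2]
      exact map_zero _)
  haveI := hψ
  obtain ⟨Ψ, hΨ⟩ := exists_mono_push j (tilde M) I ψ
  haveI := hM
  haveI : Flat j := inferInstance
  refine ⟨(Scheme.Modules.pushforward j).obj (tilde M), Ψ, QCoh.isQuasicoherent_pushforward j (tilde M),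
    InjSky20.injective_pushforward_of_flat j (tilde M), fun hz' => hM0 ?_, hΨ⟩
  exact ((Scheme.Modules.restrictFunctor j).map_isZero hz').of_iso
    (@asIso _ _ _ _ ((Scheme.Modules.restrictAdjunction j).counit.app (tilde M)) inferInstance).symm

omit [IsLocallyNoetherian X] in
theorem ofLE_ι {I : X.Modules} {κ : Type u} (a : κ → Subobject I) {k l : κ} (h : l = k) (hle : a k ≤ a l) :
    Subobject.ofLE (a k) (a l) hle ≫ Sigma.ι (fun k => ((a k : Subobject I) : X.Modules)) l =
      Sigma.ι (fun k => ((a k : Subobject I) : X.Modules)) k := by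
  subst h
  rw [Subobject.ofLE_refl, Category.id_comp]

omit [IsLocallyNoetherian X] in
/-- Adjoining a subobject of the complement keeps independence. -/
theorem indepSet_insert {I : X.Modules} {s : Set (Subobject I)} {κ : Type u} {a : κ → Subobject I}
    (ρ : I ⟶ ∐ fun k => ((a k : Subobject I) : X.Modules))
    (hmem : ∀ k, a k ∈ s) (hsurj : ∀ c ∈ s, ∃ k, a k = c)
    (hρ : (Sigma.desc fun k => (a k).arrow) ≫ ρ = 𝟙 _) (b : Subobject I) (hbs : b ∉ s)
    (hbρ : b.arrow ≫ ρ = 0) : IndepSet (insert b s) := by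
  classical
  intro κ' c hc hcmem
  let P := ∐ fun k => ((a k : Subobject I) : X.Modules)
  let Q := ∐ fun k => ((c k : Subobject I) : X.Modules)
  have hbP : ∀ k, a k ≠ b := fun k h => hbs (h ▸ hmem k)
  have hidx : ∀ k', c k' ≠ b → ∃ k, a k = c k' := fun k' h =>
    hsurj _ ((hcmem k').resolve_left h)
  let σ : Q ⟶ P ⊞ (b : X.Modules) := Sigma.desc fun k' =>
    if h : c k' = b then Subobject.ofLE _ _ h.le ≫ biprod.inr
    else Subobject.ofLE (c k') (a (hidx k' h).choose) (hidx k' h).choose_spec.ge ≫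
      Sigma.ι (fun k => ((a k : Subobject I) : X.Modules)) _ ≫ biprod.inl
  let τP : P ⟶ Q := Sigma.desc fun k =>
    if h : ∃ k', c k' = a k then Subobject.ofLE (a k) (c h.choose) h.choose_spec.ge ≫
      Sigma.ι (fun k => ((c k : Subobject I) : X.Modules)) _ else 0
  let τb : (b : X.Modules) ⟶ Q :=
    if h : ∃ k', c k' = b then Subobject.ofLE b (c h.choose) h.choose_spec.ge ≫
      Sigma.ι (fun k => ((c k : Subobject I) : X.Modules)) _ else 0
  have hσ : σ ≫ biprod.desc τP τb = 𝟙 Q := Sigma.hom_ext _ _ fun k' => by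
    rw [Sigma.ι_desc_assoc, Category.comp_id]
    by_cases h : c k' = b
    · have hex : ∃ l, c l = b := ⟨k', h⟩
      simp only [dif_pos h, Category.assoc, biprod.inr_desc, τb, dif_pos hex, Subobject.ofLE_comp_ofLE_assoc]
      exact ofLE_ι c (hc (hex.choose_spec.trans h.symm)) _
    · have hex : ∃ l, c l = a (hidx k' h).choose := ⟨k', (hidx k' h).choose_spec.symm⟩
      simp only [dif_neg h, Category.assoc, biprod.inl_desc, τP, Sigma.ι_desc, dif_pos hex,
        Subobject.ofLE_comp_ofLE_assoc]
      exact ofLE_ι c (hc (hex.choose_spec.trans (hidx k' h).choose_spec)) _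
  let d := Sigma.desc fun k => (a k).arrow
  have hdesc : (Sigma.desc fun k => (c k).arrow) = σ ≫ biprod.desc d b.arrow :=
    Sigma.hom_ext _ _ fun k' => by
      rw [Sigma.ι_desc, Sigma.ι_desc_assoc]
      by_cases h : c k' = b
      · simp [dif_pos h]
      · simp [dif_neg h, d]
  haveI : Mono σ := SplitMono.mono ⟨_, hσ⟩
  haveI : Mono (biprod.desc d b.arrow) := Preadditive.mono_of_cancel_zero _ fun {Z} g hg => by
    have h1 : g ≫ biprod.fst = 0 := by
      have := congrArg (· ≫ ρ) hg
      simp only [biprod.desc_eq, Preadditive.comp_add, Preadditive.add_comp, Category.assoc, hρ, hbρ,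
        comp_zero, add_zero, zero_comp, d, Category.comp_id] at this
      exact this
    have h2 : g ≫ biprod.snd = 0 := by
      rw [← cancel_mono b.arrow, zero_comp, Category.assoc]
      simp only [biprod.desc_eq, Preadditive.comp_add, reassoc_of% h1, zero_comp, zero_add] at hg
      exact hg
    exact biprod.hom_ext _ _ (by simpa using h1) (by simpa using h2)
  show Mono _
  rw [hdesc]
  infer_instance

/-- Every quasi-coherent module embeds in a quasi-coherent module injective among all modules. -/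
theorem exists_injective_embedding (F : X.Modules) [F.IsQuasicoherent] :
    ∃ (J : X.Modules) (i : F ⟶ J), J.IsQuasicoherent ∧ Injective J ∧ Mono i := by
  let I := Injective.under F
  let ι := Injective.ι F
  let good : Subobject I → Prop := fun a =>
    (a : X.Modules).IsQuasicoherent ∧ Injective (a : X.Modules)
  obtain ⟨s, hs, hind, hmax⟩ := exists_maximal_indepSet good
  let κ := Shrink.{u} s
  let a : κ → Subobject I := fun k => ((equivShrink.{u} s).symm k).1
  have ha : Function.Injective a := fun k l h =>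
    (equivShrink.{u} s).symm.injective (Subtype.ext h)
  have hmem : ∀ k, a k ∈ s := fun k => ((equivShrink.{u} s).symm k).2
  let Fm : κ → X.Modules := fun k => ((a k : Subobject I) : X.Modules)
  let P : X.Modules := ∐ Fm
  let d : P ⟶ I := Sigma.desc fun k => (a k).arrow
  haveI : Mono d := hind κ a ha hmem
  haveI : Injective P := InjCoprod20.injective_coproduct Fm fun k => (hs _ (hmem k)).2
  haveI hPq : P.IsQuasicoherent := QCoh.isQuasicoherent_colimit _ fun k => (hs _ (hmem k.as)).1
  let ρ : I ⟶ P := Injective.factorThru (𝟙 P) d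
  have hρ : d ≫ ρ = 𝟙 P := Injective.comp_factorThru _ _
  refine ⟨P, ι ≫ ρ, hPq, ‹_›, ?_⟩
  by_contra hni
  let K := kernel (ι ≫ ρ)
  have hK : ¬ IsZero K := fun h => hni (Preadditive.mono_of_kernel_zero (h.eq_of_src _ _))
  let R := kernel ρ
  let proj : I ⟶ R := kernel.lift ρ (𝟙 I - ρ ≫ d)
    (by rw [Preadditive.sub_comp, Category.id_comp, Category.assoc, hρ, Category.comp_id, sub_self])
  have hproj : kernel.ι ρ ≫ proj = 𝟙 R := by
    rw [← cancel_mono (kernel.ι ρ), Category.assoc, kernel.lift_ι, Preadditive.comp_sub,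
      Category.comp_id, kernel.condition_assoc, zero_comp, sub_zero, Category.id_comp]
  haveI : Injective R := ⟨fun {A B} φ f hf => ⟨Injective.factorThru (φ ≫ kernel.ι ρ) f ≫ proj, by
    rw [Injective.comp_factorThru_assoc, Category.assoc, hproj, Category.comp_id]⟩⟩
  let g : K ⟶ R := kernel.lift ρ (kernel.ι (ι ≫ ρ) ≫ ι) (by rw [Category.assoc, kernel.condition])
  haveI : Mono (g ≫ kernel.ι ρ) := by
    rw [kernel.lift_ι]
    infer_instance
  haveI : Mono g := mono_of_mono g (kernel.ι ρ)
  obtain ⟨J, Ψ, hJq, hJi, hJ0, hΨ⟩ := exists_good (kernel.ι (ι ≫ ρ)) g hK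
  haveI := hΨ
  let b : Subobject I := Subobject.mk (Ψ ≫ kernel.ι ρ)
  let eb : (b : X.Modules) ≅ J := Subobject.underlyingIso _
  haveI := hJq
  haveI := hJi
  have hbgood : good b := ⟨QCoh.isQuasicoherent_of_iso eb.symm, Injective.of_iso eb.symm hJi⟩
  have hbρ : b.arrow ≫ ρ = 0 := by
    rw [← Subobject.underlyingIso_hom_comp_eq_mk (Ψ ≫ kernel.ι ρ), Category.assoc, Category.assoc,
      kernel.condition, comp_zero, comp_zero]
  have hbs : b ∉ s := fun hb => hJ0 (by
    obtain ⟨k, hk⟩ : ∃ k, a k = b := ⟨equivShrink.{u} s ⟨b, hb⟩, by simp [a]⟩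
    have hbρ' : (a k).arrow ≫ ρ = 0 := hk.symm ▸ hbρ
    have h0 : (a k).arrow = 0 := by
      have h1 : (a k).arrow = Sigma.ι Fm k ≫ d := (Sigma.ι_desc (fun k => (a k).arrow) k).symm
      have h2 : Sigma.ι Fm k = 0 := by
        rw [h1, Category.assoc, hρ, Category.comp_id] at hbρ'
        exact hbρ'
      rw [h1, h2, zero_comp]
    exact ((IsZero.of_mono_eq_zero _ h0).of_iso (eqToIso (congrArg (fun c : Subobject I => (c : X.Modules)) hk.symm))).of_iso eb.symm)
  exact hmax b hbgood hbs (indepSet_insert ρ hmem (fun c hc =>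
    ⟨equivShrink.{u} s ⟨c, hc⟩, by simp [a]⟩) hρ b hbs hbρ)

end GrothLib.InjQCoh20
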