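import Groth.Agent.Lib.InjTilde20.Main
import Groth.Agent.Lib.InjSky20.Basic
import Groth.Agent.Lib.InjCoprod20.Basic
import Groth.Agent.Lib.InjMod.Noetherian
import Groth.Agent.Lib.OX.ExtZeroOpen
import Groth.Agent.Lib.HomRestrict20.Basic
import Groth.Agent.Lib.QCoh.Qcqs
import Groth.Agent.Lib.QCoh.FT

/-!
# Quasi-coherent injective subobjects generated by prime cyclic sections
-/

set_option autoImplicit false
set_option maxHeartbeats 400000
set_option linter.style.haveILetI false
set_option backward.isDefEq.respectTransparency false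

universe u

open CategoryTheory CategoryTheory.Limits AlgebraicGeometry Opposite TopologicalSpace

namespace GrothLib.InjQCoh20

open InjTilde20

variable {R : CommRingCat.{u}}

/-- The germ of a global section of a module on an affine scheme. -/
noncomputable def topGerm (N : (Spec R).Modules) (p : Spec R) (z : (moduleSpecΓFunctor (R := R)).obj N) :
    (OX.stalk p).obj N :=
  OX.germ (x := p) (DCoh.toP.obj N) ⊤ trivial z

theorem topGerm_zero (N : (Spec R).Modules) (p : Spec R) : topGerm N p 0 = 0 := map_zero _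

theorem topGerm_map {N N' : (Spec R).Modules} (f : N ⟶ N') (p : Spec R)
    (z : (moduleSpecΓFunctor (R := R)).obj N) :
    topGerm N' p ((moduleSpecΓFunctor (R := R)).map f z) = (OX.stalk p).map f (topGerm N p z) :=
  (OX.stalkPre_map_germ (DCoh.toP.map f) ⊤ trivial z).symm

theorem topGerm_smul (N : (Spec R).Modules) (p : Spec R) (a : R) (z : (moduleSpecΓFunctor (R := R)).obj N) :
    topGerm N p (a • z) =
      (Spec R).presheaf.germ ⊤ p trivial ((Scheme.ΓSpecIso R).inv a) • topGerm N p z :=
  OX.germ_smul' (x := p) (DCoh.toP.obj N) ⊤ trivial _ z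

/-- The morphism from `R ⧸ a` given by an element killed by `a`. -/
noncomputable def quotHom {N₀ : ModuleCat.{u} R} (a : Ideal R) (r : N₀) (hr : ∀ x ∈ a, x • r = 0) :
    ModuleCat.of R (R ⧸ a) ⟶ N₀ :=
  ModuleCat.ofHom (Submodule.liftQ a (LinearMap.toSpanSingleton R N₀ r) fun x hx => hr x hx)

variable [IsNoetherianRing R]

/-- The hull of `R ⧸ p` is `p`-primary. -/
theorem exists_primary_hull (p : Spec R) :
    ∃ (E : Type u) (_ : AddCommGroup E) (_ : Module R E) (f : (R ⧸ p.asIdeal) →ₗ[R] E),
      InjHull.IsInjectiveHull f ∧ IsPrimary p (ModuleCat.of R E) := by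
  obtain ⟨E, _, _, f, hf⟩ := InjMod.exists_injective_hull (R := R) (R ⧸ p.asIdeal)
  refine ⟨E, inferInstance, inferInstance, f, hf, ?_⟩
  have hind := InjMod.hull_quotient_prime_indecomposable p.asIdeal hf
  obtain ⟨q, hq⟩ := exists_isPrimary E hind hf.isInjective
  have hne : f (Submodule.Quotient.mk (1 : R)) ≠ 0 := fun h =>
    p.isPrime.ne_top ((Ideal.eq_top_iff_one _).2
      ((Submodule.Quotient.mk_eq_zero p.asIdeal).1 (hf.injective (h.trans (map_zero f).symm))))
  have hann : ∀ s : R, s • f (Submodule.Quotient.mk (1 : R)) = 0 ↔ s ∈ p.asIdeal := fun s => by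
    rw [← map_smul, map_eq_zero_iff f hf.injective, ← Submodule.Quotient.mk_smul, Submodule.Quotient.mk_eq_zero,
      smul_eq_mul, mul_one]
  have h1 : p.asIdeal ≤ q.asIdeal := fun s hs => by
    by_contra hsq
    exact hne ((hq.bij s hsq).1 (((hann s).2 hs).trans (smul_zero s).symm))
  have h2 : q.asIdeal ≤ p.asIdeal := fun s hs => by
    obtain ⟨n, hn⟩ := hq.torsion (f (Submodule.Quotient.mk (1 : R)))
    exact p.isPrime.mem_of_pow_mem n ((hann _).1 (hn _ (Ideal.pow_mem_pow hs n)))
  obtain rfl : q = p := PrimeSpectrum.ext (le_antisymm h2 h1)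
  exact hq

/-- A morphism out of a primary injective sheaf is mono if it is so on the germs at the point. -/
theorem mono_of_stalk {p : Spec R} {M : ModuleCat.{u} R} (hM : IsPrimary p M) {N : (Spec R).Modules}
    (ψ : tilde M ⟶ N)
    (h : ∀ e : M, topGerm N p ((tilde.adjunction (R := R)).homEquiv M N ψ e) = 0 → e = 0) : Mono ψ := by
  haveI := InjTilde20.isIso_unit_app hM
  refine Preadditive.mono_of_cancel_zero _ fun {K} g hg => ?_
  have hst : ∀ z : (OX.stalk p).obj (tilde M), (OX.stalk p).map ψ z = 0 → z = 0 := fun z hz => by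
    obtain ⟨e, rfl⟩ := (InjTilde20.bijective_toStalk hM).2 z
    refine (congrArg _ (h e ?_)).trans (map_zero _)
    rw [Adjunction.homEquiv_unit, ConcreteCategory.comp_apply]
    exact (topGerm_map _ p _).trans hz
  have h0 : (OX.stalk p).map g = 0 := by
    refine ModuleCat.hom_ext (LinearMap.ext fun z => hst _ ?_)
    rw [← ConcreteCategory.comp_apply, ← Functor.map_comp, hg, Functor.map_zero]
    rfl
  rw [← cancel_mono ((OX.stalkSkyAdj (X := Spec R) p).unit.app (tilde M)), zero_comp]
  have := (OX.stalkSkyAdj (X := Spec R) p).unit.naturality g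
  simp only [Functor.id_map, Functor.comp_map] at this
  rw [this, h0, Functor.map_zero, comp_zero]

/-- A section with prime annihilator at its point spans a copy of the hull. -/
theorem exists_mono_tilde (N : (Spec R).Modules) [Injective N] (p : Spec R)
    (r : (moduleSpecΓFunctor (R := R)).obj N) (hr : ∀ a ∈ p.asIdeal, a • r = 0)
    (hne : ∀ c : R, c ∉ p.asIdeal → topGerm N p (c • r) ≠ 0) :
    ∃ (M : ModuleCat.{u} R) (ψ : tilde M ⟶ N), Mono ψ ∧ Injective (tilde M) ∧ ¬ IsZero (tilde M) := by
  obtain ⟨E, _, _, f, hf, hp⟩ := exists_primary_hull p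
  let Q : ModuleCat.{u} R := ModuleCat.of R (R ⧸ p.asIdeal)
  let i : Q ⟶ ModuleCat.of R E := ModuleCat.ofHom f
  let N0 : ModuleCat.{u} R := (moduleSpecΓFunctor (R := R)).obj N
  let x : Q ⟶ N0 := quotHom (N₀ := N0) p.asIdeal r hr
  haveI : Mono i := (ModuleCat.mono_iff_injective _).2 hf.injective
  haveI : (tilde.functor R).PreservesHomology := Functor.preservesHomologyOfExact _
  haveI : Mono ((tilde.functor R).map i) := inferInstance
  let adj := tilde.adjunction (R := R)
  let φ : (tilde.functor R).obj Q ⟶ N := (adj.homEquiv Q N).symm x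
  let ψ : (tilde.functor R).obj (ModuleCat.of R E) ⟶ N := Injective.factorThru φ ((tilde.functor R).map i)
  have hx : i ≫ adj.homEquiv _ N ψ = x := by
    rw [← adj.homEquiv_naturality_left, Injective.comp_factorThru, Equiv.apply_symm_apply]
  have hone : ∀ c : R, (adj.homEquiv _ N ψ) (f (Submodule.Quotient.mk c)) = c • r := fun c => by
    refine (ConcreteCategory.congr_hom hx (Submodule.Quotient.mk c : R ⧸ p.asIdeal)).trans ?_
    rfl
  have hmono : Mono ψ := by
    refine mono_of_stalk hp ψ fun e he => ?_
    by_contra he0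
    obtain ⟨y, ⟨hy1, q, rfl⟩, hy0⟩ := Submodule.exists_mem_ne_zero_of_ne_bot
      (hf.essential (Submodule.span R {e}) (by rwa [Ne, Submodule.span_singleton_eq_bot]))
    obtain ⟨a, ha⟩ := Submodule.mem_span_singleton.1 hy1
    obtain ⟨c, rfl⟩ := Submodule.Quotient.mk_surjective _ q
    have hc : c ∉ p.asIdeal := fun h => hy0 (by rw [(Submodule.Quotient.mk_eq_zero _).2 h, map_zero])
    refine hne c hc ?_
    rw [← hone c, ← ha]
    refine (congrArg (topGerm N p) ((adj.homEquiv _ N ψ).hom.map_smul a e)).trans ?_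
    rw [topGerm_smul]
    exact (congrArg (_ • ·) he).trans (smul_zero _)
  refine ⟨ModuleCat.of R E, ψ, hmono, InjTilde20.injective_tilde _ hf.isInjective, fun hz => ?_⟩
  have h1 := hne 1 (fun h => p.isPrime.ne_top ((Ideal.eq_top_iff_one _).2 h))
  refine h1 ?_
  rw [← hone 1]
  have h0 : ψ = 0 := hz.eq_of_src _ _
  have h2 : adj.homEquiv (ModuleCat.of R E) N ψ = 0 := by
    rw [h0, Adjunction.homEquiv_unit]
    have : (moduleSpecΓFunctor (R := R)).map (0 : (tilde.functor R).obj (ModuleCat.of R E) ⟶ N) = 0 := by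
      haveI : (moduleSpecΓFunctor (R := R)).Additive := adj.right_adjoint_additive
      exact Functor.map_zero _ _ _
    rw [this, comp_zero]
  rw [h2]
  exact topGerm_zero N p

variable {X V : Scheme.{u}} (j : V ⟶ X) [IsOpenImmersion j]

/-- The canonical `j_! N ⟶ j_* N`. -/
noncomputable def extToPush (N : V.Modules) :
    (CxOX.extZero j).obj N ⟶ (Scheme.Modules.pushforward j).obj N :=
  ((CxOX.extZeroAdj j).homEquiv N _).symm (inv ((Scheme.Modules.restrictAdjunction j).counit.app N))

omit [IsNoetherianRing R] in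
theorem unit_map_extToPush (N : V.Modules) :
    (CxOX.extZeroAdj j).unit.app N ≫ (Scheme.Modules.restrictFunctor j).map (extToPush j N) =
      inv ((Scheme.Modules.restrictAdjunction j).counit.app N) :=
  ((CxOX.extZeroAdj j).homEquiv_unit _ _ _).symm.trans (Equiv.apply_symm_apply _ _)

omit [IsNoetherianRing R] in
theorem mono_extToPush (N : V.Modules) : Mono (extToPush j N) := by
  rw [OX.mono_iff]
  intro x
  by_cases hx : x ∈ Set.range j
  · obtain ⟨y, rfl⟩ := hx
    have : IsIso ((Scheme.Modules.restrictFunctor j).map (extToPush j N)) := by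
      have hu : IsIso ((CxOX.extZeroAdj j).unit.app N) := inferInstance
      have h : IsIso ((CxOX.extZeroAdj j).unit.app N ≫
          (Scheme.Modules.restrictFunctor j).map (extToPush j N)) := by
        rw [unit_map_extToPush]; infer_instance
      exact IsIso.of_isIso_comp_left ((CxOX.extZeroAdj j).unit.app N) _
    exact OX.mono_stalk_map_of_restrict j (extToPush j N) y inferInstance
  · exact mono_of_source_iso_zero _ (OX.isZero_stalk_extZero j N x hx).isoZero

omit [IsNoetherianRing R] in
/-- An injective module receiving a mono from `N` on an open receives one from `j_* N`. -/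
theorem exists_mono_push (N : V.Modules) (T : X.Modules) [Injective T]
    (ψ : N ⟶ (Scheme.Modules.restrictFunctor j).obj T) [Mono ψ] :
    ∃ Ψ : (Scheme.Modules.pushforward j).obj N ⟶ T, Mono Ψ := by
  haveI := mono_extToPush j N
  let Ψ := Injective.factorThru (((CxOX.extZeroAdj j).homEquiv N T).symm ψ) (extToPush j N)
  refine ⟨Ψ, Preadditive.mono_of_cancel_zero _ fun {K} g hg => ?_⟩
  have h1 : inv ((Scheme.Modules.restrictAdjunction j).counit.app N) ≫
      (Scheme.Modules.restrictFunctor j).map Ψ = ψ := by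
    rw [← unit_map_extToPush, Category.assoc, ← Functor.map_comp, Injective.comp_factorThru]
    exact ((CxOX.extZeroAdj j).homEquiv_unit _ _ _).symm.trans (Equiv.apply_symm_apply _ _)
  rw [IsIso.inv_comp_eq] at h1
  have h2 : (Scheme.Modules.restrictFunctor j).map g ≫ (Scheme.Modules.restrictAdjunction j).counit.app N = 0 := by
    haveI := HomRestrict20.additive_restrictFunctor j
    rw [← cancel_mono ψ, Category.assoc, ← h1, ← Functor.map_comp, hg, Functor.map_zero, zero_comp]
  apply ((Scheme.Modules.restrictAdjunction j).homEquiv K N).symm.injective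
  haveI := HomRestrict20.additive_restrictFunctor j
  rw [Adjunction.homEquiv_counit, Adjunction.homEquiv_counit, h2, Functor.map_zero, zero_comp]

end GrothLib.InjQCoh20
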